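import Groth.Agent.ThickPCLib.Step
import Groth.Agent.DRingLib.FlatBC

/-!
# Descent of pseudo-coherence along flat quotient maps
-/

set_option autoImplicit false
set_option linter.style.haveILetI false
set_option backward.isDefEq.respectTransparency false
set_option backward.isDefEq.respectTransparency.types false
set_option maxHeartbeats 1000000

noncomputable section

universe u

open CategoryTheory CategoryTheory.Limits CategoryTheory.Pretriangulated AlgebraicGeometry TopologicalSpace Opposite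
open HomologicalComplex
open Groth.Agent ProjFormLib
open Groth.Agent.PerfLib (resD resDQIso isPC_of_iso)
open ThickPCLib (nonempty_topHomologyIso isPC_inD_of_pos isPC_of_strictlyPerfect isPC_restrict_lpull)
attribute [local instance] HasDerivedCategory.standard

namespace FpqcPCLib

variable {X X' : Scheme.{u}}

theorem isQuotientMap_restrict (i : X ⟶ X') (hq : Topology.IsQuotientMap i) (V : X'.Opens) :
    Topology.IsQuotientMap (i ∣_ V) := by
  have h := hq.restrictPreimage_isOpen V.2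
  rw [morphismRestrict_base]
  exact h

theorem ff_stalkMap (i : X ⟶ X') [Flat i] (x : X) :
    letI := (i.stalkMap x).hom.toAlgebra
    Module.FaithfullyFlat (X'.presheaf.stalk (i x)) (X.presheaf.stalk x) := by
  letI := (i.stalkMap x).hom.toAlgebra
  haveI : Module.Flat (X'.presheaf.stalk (i x)) (X.presheaf.stalk x) := Flat.stalkMap i x
  haveI : IsLocalHom (algebraMap (X'.presheaf.stalk (i x)) (X.presheaf.stalk x)) :=
    inferInstanceAs (IsLocalHom (i.stalkMap x).hom)
  exact Module.FaithfullyFlat.of_flat_of_isLocalHom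

theorem finite_of_extend (i : X ⟶ X') [Flat i] (x : X) (M : ModuleCat.{u} (X'.presheaf.stalk (i x)))
    (h : Module.Finite (X.presheaf.stalk x) ((ModuleCat.extendScalars.{u, u, u} (i.stalkMap x).hom).obj M)) :
    Module.Finite (X'.presheaf.stalk (i x)) M := by
  letI := (i.stalkMap x).hom.toAlgebra
  haveI := ff_stalkMap i x
  haveI := (DRingLib.finite_extendScalars_iff (A := X'.presheaf.stalk (i x)) (B := X.presheaf.stalk x) M).1 h
  exact Module.Finite.of_finite_tensorProduct_of_faithfullyFlat (X.presheaf.stalk x)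

theorem isZero_of_extend (i : X ⟶ X') [Flat i] (x : X) (M : ModuleCat.{u} (X'.presheaf.stalk (i x)))
    (h : IsZero ((ModuleCat.extendScalars.{u, u, u} (i.stalkMap x).hom).obj M)) : IsZero M := by
  letI := (i.stalkMap x).hom.toAlgebra
  haveI := ff_stalkMap i x
  haveI : Subsingleton ((ModuleCat.extendScalars.{u, u, u}
      (algebraMap (X'.presheaf.stalk (i x)) (X.presheaf.stalk x))).obj M) := ModuleCat.subsingleton_of_isZero h
  haveI : Subsingleton (TensorProduct (X'.presheaf.stalk (i x)) (X.presheaf.stalk x) M) :=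
    (DRingLib.extendScalarsEquiv M).toEquiv.symm.subsingleton
  haveI := Module.FaithfullyFlat.lTensor_reflects_triviality (X'.presheaf.stalk (i x)) (X.presheaf.stalk x) M
  exact ModuleCat.isZero_of_subsingleton _

theorem isZero_stalk_pullback_iff (i : X ⟶ X') [Flat i] (x : X) (H : X'.Modules) :
    IsZero ((DerSch.stalkFunctor X' (i x)).obj H) ↔
      IsZero ((DerSch.stalkFunctor X x).obj ((Scheme.Modules.pullback i).obj H)) :=
  ⟨fun h => ((ModuleCat.extendScalars.{u, u, u} (i.stalkMap x).hom).map_isZero h).of_iso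
      ((KFlatLib.stalkPullIso i x).app H),
    fun h => isZero_of_extend i x _ (h.of_iso ((KFlatLib.stalkPullIso i x).app H).symm)⟩

theorem isZero_stalk_res_iff (j : X ⟶ X') [IsOpenImmersion j] (v : X) (M : X'.Modules) :
    IsZero ((DerSch.stalkFunctor X v).obj ((PerfLib.res j).obj M)) ↔
      IsZero ((DerSch.stalkFunctor X' (j v)).obj M) :=
  ⟨ThickPCLib.isZero_stalk_of_res j v, fun h =>
    ((ModuleCat.extendScalars.{u, u, u} (j.stalkMap v).hom).map_isZero h).of_iso
      ((RelFlatLib.stalkResExt j v).app M)⟩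

section FT

variable (i : X ⟶ X') [Flat i] (hq : Topology.IsQuotientMap i)

include hq in
/-- Finite type descends. -/
theorem isFT_of_pullback (H : X'.Modules)
    (h : CohB1.IsFT ((Scheme.Modules.pullback i).obj H)) : CohB1.IsFT H := by
  classical
  refine PerfLib.isFT_of_local fun x' => ?_
  obtain ⟨x, rfl⟩ := hq.surjective x'
  -- the stalk at the point is finite
  obtain ⟨U₁, k₁, e₁, hxU₁, -, he₁⟩ := MiscFlat6.exists_spanning_nhd h x
  have hfinB := MiscFlat6.finite_stalk (he₁ x hxU₁)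
  haveI : Module.Finite (X'.presheaf.stalk (i x)) ((DerSch.stalkFunctor X' (i x)).obj H) :=
    finite_of_extend i x _
      (@Module.Finite.equiv _ _ _ _ _ _ _ _ hfinB ((KFlatLib.stalkPullIso i x).app H).toLinearEquiv)
  obtain ⟨n, a, ha⟩ := Module.Finite.exists_fin (R := X'.presheaf.stalk (i x))
    (M := (DerSch.stalkFunctor X' (i x)).obj H)
  choose W hxW t ht using fun j => exists_ger H (i x) (a j)
  let U' : X'.Opens := Finset.univ.inf W
  have hxU' : i x ∈ U' := Finset.inf_induction (p := fun T : X'.Opens => i x ∈ T) trivial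
    (fun _ h₁ _ h₂ => ⟨h₁, h₂⟩) fun j _ => hxW j
  have hle : ∀ j, U' ≤ W j := fun j => Finset.inf_le (Finset.mem_univ j)
  let ψ : (∐ fun _ : Fin n => KFlatLib.freeU U') ⟶ H :=
    Sigma.desc fun j => KFlatLib.secMap (ProjFormLib.res H (hle j) (t j))
  let π := cokernel.π ψ
  have hQx : IsZero ((DerSch.stalkFunctor X' (i x)).obj (cokernel ψ)) := by
    haveI : Epi ((DerSch.stalkFunctor X' (i x)).map π) := inferInstance
    let l := ((DerSch.stalkFunctor X' (i x)).map π).hom
    have hl : Function.Surjective l :=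
      (ModuleCat.epi_iff_surjective ((DerSch.stalkFunctor X' (i x)).map π)).1 inferInstance
    have hgen : ∀ j, l (a j) = 0 := fun j => by
      rw [← ht j, ← ger_res H (hle j) (i x) hxU' (t j)]
      refine (DerSch.stalkFunctor_map_germ (i x) π U' hxU' _).trans ?_
      have h1 : π.app U' (ProjFormLib.res H (hle j) (t j)) = 0 := by
        have hz : KFlatLib.secMap (ProjFormLib.res H (hle j) (t j)) ≫ π = 0 := by
          have hψ : Sigma.ι (fun _ : Fin n => KFlatLib.freeU U') j ≫ ψ =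
              KFlatLib.secMap (ProjFormLib.res H (hle j) (t j)) := Limits.Sigma.ι_desc _ _
          rw [← hψ, Category.assoc, cokernel.condition, comp_zero]
        rw [KFlatLib.secMap_comp] at hz
        have := KFlatLib.secMap_gen (π.app U' (ProjFormLib.res H (hle j) (t j)))
        rw [hz] at this
        exact this.symm
      rw [h1]
      exact map_zero _
    have hl0 : ∀ v, l v = 0 := fun v => by
      have hv : v ∈ Submodule.span _ (Set.range a) := ha.symm ▸ Submodule.mem_top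
      induction hv using Submodule.span_induction with
      | mem w hw => obtain ⟨j, rfl⟩ := hw; exact hgen j
      | zero => exact map_zero l
      | add w w' _ _ h1 h2 => rw [map_add, h1, h2, add_zero]
      | smul c w _ h1 => rw [map_smul, h1, smul_zero]
    haveI : Subsingleton ((DerSch.stalkFunctor X' (i x)).obj (cokernel ψ)) :=
      subsingleton_of_forall_eq 0 fun v => by obtain ⟨w, rfl⟩ := hl v; exact hl0 w
    exact ModuleCat.isZero_of_subsingleton _
  have hQ : CohB1.IsFT ((Scheme.Modules.pullback i).obj (cokernel ψ)) := by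
    haveI : Epi ((Scheme.Modules.pullback i).map π) := inferInstance
    exact QCohLib.isFT_of_epi ((Scheme.Modules.pullback i).map π) h
  obtain ⟨O', hO'⟩ : ∃ O' : X'.Opens, (O' : Set X') =
      {y | IsZero ((DerSch.stalkFunctor X' y).obj (cokernel ψ))} := by
    refine ⟨⟨_, hq.isOpen_preimage.1 ?_⟩, rfl⟩
    refine isOpen_iff_forall_mem_open.2 fun z hz => ?_
    obtain ⟨O, hzO, hO⟩ := RelFlatLib.exists_isZero_nhd hQ ((isZero_stalk_pullback_iff i z _).1 hz)
    exact ⟨O, fun y hy => (isZero_stalk_pullback_iff i y _).2 (hO y hy), O.2, hzO⟩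
  have hxO : i x ∈ O' := (Set.ext_iff.1 hO' (i x)).2 hQx
  let V : X'.Opens := U' ⊓ O'
  have hz : ∀ v : (V : Scheme.{u}), IsZero ((DerSch.stalkFunctor _ v).obj
      ((PerfLib.res V.ι).obj (cokernel ψ))) := fun v => by
    have hzy : IsZero ((DerSch.stalkFunctor X' (V.ι v)).obj (cokernel ψ)) := (Set.ext_iff.1 hO' (V.ι v)).1 v.2.2
    exact ((ModuleCat.extendScalars.{u, u, u} (V.ι.stalkMap v).hom).map_isZero hzy).of_iso
      ((RelFlatLib.stalkResExt V.ι v).app _)
  have hQ0 : IsZero ((PerfLib.res V.ι).obj (cokernel ψ)) := (KFlatLib.isZero_iff_forall_stalk _).2 hz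
  haveI : Epi ((PerfLib.res V.ι).map ψ) :=
    Preadditive.epi_of_isZero_cokernel _ (hQ0.of_iso (PreservesCokernel.iso (PerfLib.res V.ι) ψ).symm)
  -- the source is free on `U'`
  haveI := KFlatLib.isIso_pullback_resFree U' n
  let Φ := Scheme.Modules.pullback U'.ι
  let η := Scheme.Modules.restrictFunctorIsoPullback U'.ι
  let e : (PerfLib.res U'.ι).obj (∐ fun _ : Fin n => KFlatLib.freeU U') ≅
      (PerfLib.res U'.ι).obj (FlatMod.freeMod X' n) :=
    η.app _ ≪≫ asIso (Φ.map (KFlatLib.resFree U' n)) ≪≫ (η.app _).symm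
  let j := X'.homOfLE (inf_le_left : V ≤ U')
  have hj : j ≫ U'.ι = V.ι := X'.homOfLE_ι _
  refine ⟨V, V.ι, inferInstance, ⟨i x, hxU', hxO⟩, rfl, _, (PerfLib.res V.ι).map ψ, inferInstance, ?_⟩
  refine PerfLib.FPFree.of_iso (Scheme.Modules.restrictFunctorCongr hj |>.app _) ?_
  refine PerfLib.FPFree.of_iso ((Scheme.Modules.restrictFunctorComp j U'.ι).symm.app _) ?_
  refine PerfLib.FPFree.res j (PerfLib.FPFree.of_iso e.symm ?_)
  have hF := PerfLib.isFinFree_res U'.ι (V := (U' : Scheme.{u})) (M := FlatMod.freeMod X' n) ⟨n, ⟨Iso.refl _⟩⟩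
  exact (PerfLib.FPFree.of_retract (0 : (PerfLib.res U'.ι).obj (FlatMod.freeMod X' n) ⟶ _) (𝟙 _) (𝟙 _)
    (Category.id_comp _) hF hF).of_iso cokernelZeroIsoTarget

end FT

/-- One step of the induction. -/
theorem step (i : X ⟶ X') [Flat i] (hq : Topology.IsQuotientMap i) [DCoh.HasLpull i] {n : ℤ} (C : DCoh.D X')
    (hC : ∀ j, n < j → IsZero (DCoh.HD C j)) (h : DCoh.IsPseudoCoherentD n ((DCoh.Lpull i).obj C)) :
    DCoh.IsPseudoCoherentD n C := by
  have : C.IsLE n := (DerivedCategory.isLE_iff C n).mpr hC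
  obtain ⟨C₀, hC₀, ⟨e⟩⟩ := DerivedCategory.exists_iso_Q_obj_of_isLE C n
  obtain ⟨L, α, hLb, hLf, hα⟩ := KFlatLib.exists_flat_resolution C₀ n
    fun j hj => C₀.isZero_of_isStrictlyLE n j hj
  haveI : IsIso (DerivedCategory.Q.map α) := inferInstance
  let eL : DCoh.toD X' L ≅ C := asIso (DerivedCategory.Q.map α) ≪≫ e.symm
  let eP : DCoh.toD X ((KFlatLib.pullCx i).obj L) ≅ (DCoh.Lpull i).obj C :=
    (KFlatLib.lpullObjIso i L (KFlatLib.isKFlat_of_bounded_flat_mod L n hLb hLf)).symm ≪≫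
      (DCoh.Lpull i).mapIso eL
  have hft := PerfLib.isFT_HD_top h fun j hj =>
    KFlatLib.isZero_HD_lpull i C (n + 1) (fun l hl => hC l (by omega)) j (by omega)
  obtain ⟨e'⟩ := nonempty_topHomologyIso (Scheme.Modules.pullback i) L n (hLb _ (by omega))
  have hH : CohB1.IsFT (DCoh.HD C n) := by
    refine isFT_of_pullback i hq _ ?_
    let ee : DCoh.HD ((DCoh.Lpull i).obj C) n ≅ (Scheme.Modules.pullback i).obj (DCoh.HD C n) :=
      (DerivedCategory.homologyFunctor _ n).mapIso eP.symm ≪≫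
        (DerivedCategory.homologyFunctorFactors X.Modules n).app _ ≪≫ e' ≪≫
        (Scheme.Modules.pullback i).mapIso (((DerivedCategory.homologyFunctorFactors X'.Modules n).app L).symm ≪≫
          (DerivedCategory.homologyFunctor _ n).mapIso eL)
    exact QCohLib.isFT_of_epi ee.hom hft
  refine RelPCSchLib.isPC_of_homology n 1 C (fun j hj => hC j (by omega)) fun j => ?_
  rcases lt_trichotomy j n with hj | rfl | hj
  · exact isPC_inD_of_pos (by omega) _
  · rw [sub_self]
    exact PerfLib.isPC_zero_of_isFT hH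
  · exact PerfLib.isPC_of_isZero_above fun l _ => (DerivedCategory.homologyFunctor _ l).map_isZero
      ((DerivedCategory.singleFunctor _ 0).map_isZero (hC j hj))

/-- Descending induction from a bound. -/
theorem isPC_of_bound (i : X ⟶ X') [Flat i] (hq : Topology.IsQuotientMap i) [DCoh.HasLpull i]
    (K : DCoh.D X') (b : ℤ) (hb : ∀ j, b < j → IsZero (DCoh.HD K j))
    {m : ℤ} (h : DCoh.IsPseudoCoherentD m ((DCoh.Lpull i).obj K)) : DCoh.IsPseudoCoherentD m K := by
  suffices ∀ k : ℕ, m ≤ b + 1 - k → DCoh.IsPseudoCoherentD (b + 1 - k) K by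
    rcases le_or_gt m (b + 1) with hm | hm
    · have := this (b + 1 - m).toNat (by omega)
      rwa [show b + 1 - ((b + 1 - m).toNat : ℤ) = m by omega] at this
    · exact PerfLib.isPC_of_isZero_above fun j hj => hb j (by omega)
  intro k
  induction k with
  | zero => exact fun _ => PerfLib.isPC_of_isZero_above fun j hj => hb j (by omega)
  | succ k ih =>
    intro hk
    replace ih := ih (by omega)
    obtain ⟨n, hn1, hn2⟩ : ∃ n, b + 1 - (k : ℤ) = n + 1 ∧ b + 1 - ((k + 1 : ℕ) : ℤ) = n :=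
      ⟨b - k, by omega, by push_cast; omega⟩
    rw [hn1] at ih
    rw [hn2] at hk ⊢
    obtain ⟨P, hP, ⟨eP⟩⟩ := KFlatLib.exists_good_rep K
    refine PerfLib.isPC_local fun x' => ?_
    obtain ⟨V, hxV, hV⟩ := ih x'
    obtain ⟨E, α, hE, hα₁, hα₂⟩ := hV P ⟨eP⟩
    haveI := KFlatLib.hasLpull (i ∣_ V)
    haveI : Flat (i ∣_ V) := inferInstance
    refine ⟨V, V.ι, inferInstance, ⟨x', hxV⟩, rfl, ?_⟩
    refine isPC_of_iso ((resDQIso V.ι P).symm ≪≫ (resD V.ι).mapIso eP) ?_
    obtain ⟨C, p, q, hT⟩ := distinguished_cocone_triangle α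
    have hC := (KFlatLib.isoAboveEpiAt_iff _ hT (n + 1)).1 ⟨hα₁, hα₂⟩
    obtain ⟨P₁, Q₁, φ, hP₁, hQ₁, ⟨e⟩⟩ := KFlatLib.exists_kFlat_triangle _ hT
    let φ' := (KFlatLib.pullCx (i ∣_ V)).map φ
    let T' := DerivedCategory.Q.mapTriangle.obj (CochainComplex.mappingCone.triangle φ')
    have hT' : T' ∈ distTriang (DCoh.D _) := DerivedCategory.mappingCone_triangle_distinguished _
    have h₃ : DCoh.IsPseudoCoherentD n T'.obj₃ := by
      refine PerfLib.isPC_obj₃ T' hT' n ?_ ?_
      · exact isPC_of_iso ((DCoh.Lpull (i ∣_ V)).mapIso (Triangle.π₁.mapIso e).symm ≪≫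
          KFlatLib.lpullObjIso (i ∣_ V) P₁ hP₁)
          (KFlatLib.isPseudoCoherent_lpull (i ∣_ V) _ _ (isPC_of_strictlyPerfect hE _))
      · exact isPC_of_iso ((DCoh.Lpull (i ∣_ V)).mapIso (Triangle.π₂.mapIso e).symm ≪≫
          KFlatLib.lpullObjIso (i ∣_ V) Q₁ hQ₁)
          (isPC_restrict_lpull i V P hP.1 n (isPC_of_iso ((DCoh.Lpull i).mapIso eP.symm) (PerfLib.isPC_mono hk h)))
    have hstep : DCoh.IsPseudoCoherentD n C :=
      step (i ∣_ V) (isQuotientMap_restrict i hq V) C (fun j hj => hC j (by omega))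
        (isPC_of_iso (DerivedCategory.Q.mapIso
          (CochainComplex.mappingCone.mapHomologicalComplexIso φ (Scheme.Modules.pullback (i ∣_ V))).symm ≪≫
            (KFlatLib.lpullObjIso (i ∣_ V) (CochainComplex.mappingCone φ)
              (KFlatLib.isKFlat_mappingCone_mod hP₁ hQ₁ φ)).symm ≪≫
              (DCoh.Lpull (i ∣_ V)).mapIso (Triangle.π₃.mapIso e)) h₃)
    exact PerfLib.isPC_obj₂ _ hT n (isPC_of_strictlyPerfect hE n) hstep


theorem isZero_stalk_homology_pull_iff (i : X ⟶ X') [Flat i] (P : CochainComplex X'.Modules ℤ) (j : ℤ) (x : X) :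
    IsZero ((DerSch.stalkFunctor X' (i x)).obj (P.homology j)) ↔
      IsZero ((DerSch.stalkFunctor X x).obj (((KFlatLib.pullCx i).obj P).homology j)) := by
  obtain ⟨e⟩ := DRingLib.exists_homology_extCx_iso (i.stalkMap x).hom (Flat.stalkMap i x)
    ((KFlatLib.stalkCx X' (i x)).obj P) j
  let e' := (KFlatLib.stalkHomologyIso ((KFlatLib.pullCx i).obj P) x j).symm ≪≫
    (homologyFunctor _ _ j).mapIso (KFlatLib.stalkPullCxIso i x P) ≪≫ e ≪≫
    (ModuleCat.extendScalars.{u, u, u} (i.stalkMap x).hom).mapIso (KFlatLib.stalkHomologyIso P (i x) j)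
  exact ⟨fun h => ((ModuleCat.extendScalars.{u, u, u} _).map_isZero h).of_iso e',
    fun h => isZero_of_extend i x _ (h.of_iso e'.symm)⟩

/-- Vanishing of top cohomology is open, in one degree of pseudo-coherence. -/
theorem exists_nhd_acyclicGE {C : DCoh.D X} (n : ℤ) (hC : DCoh.IsPseudoCoherentD n C) :
    ∀ (k : ℕ), (∀ i, n + k ≤ i → IsZero (DCoh.HD C i)) → ∀ {x : X},
      (∀ i, n ≤ i → IsZero ((DerSch.stalkFunctor X x).obj (DCoh.HD C i))) →
        ∃ W : X.Opens, x ∈ W ∧ ∀ i, n ≤ i → ∀ y ∈ W, IsZero ((DerSch.stalkFunctor X y).obj (DCoh.HD C i)) := by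
  intro k
  induction k generalizing n with
  | zero =>
    intro h x _
    exact ⟨⊤, trivial, fun i hi y _ => (DerSch.stalkFunctor X y).map_isZero (h i (by simpa using hi))⟩
  | succ k ih =>
    intro h x hx
    obtain ⟨W, hxW, hW⟩ := ih (n + 1) (PerfLib.isPC_mono (by omega) hC) (fun i hi => h i (by push_cast; omega))
      (x := x) (fun i hi => hx i (by omega))
    have hz : ∀ i, n < i → IsZero (DCoh.HD ((resD W.ι).obj C) i) := fun i hi =>
      ((KFlatLib.isZero_iff_forall_stalk _).2 fun y =>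
        (isZero_stalk_res_iff W.ι y _).2 (hW i (by omega) (W.ι y) y.2)).of_iso (PerfLib.resHDIso W.ι C i)
    have hft := PerfLib.isFT_HD_top (PerfLib.isPC_res hC W.ι) hz
    obtain ⟨W', hwW', hW'⟩ := RelFlatLib.exists_isZero_nhd hft (x := (⟨x, hxW⟩ : (W : Scheme.{u})))
      (((isZero_stalk_res_iff W.ι (⟨x, hxW⟩ : (W : Scheme.{u})) _).2 (hx n le_rfl)).of_iso
        ((DerSch.stalkFunctor _ _).mapIso (PerfLib.resHDIso W.ι C n)))
    refine ⟨W.ι ''ᵁ W', ⟨⟨x, hxW⟩, hwW', rfl⟩, fun i hi => ?_⟩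
    rintro _ ⟨y, hy, rfl⟩
    rcases hi.eq_or_lt with rfl | hlt
    · exact (isZero_stalk_res_iff W.ι y _).1
        ((hW' y hy).of_iso ((DerSch.stalkFunctor _ y).mapIso (PerfLib.resHDIso W.ι C n).symm))
    · exact hW i (by omega) _ y.2

/-- Pseudo-coherence descends along a flat quotient map. -/
theorem isPC_of_lpull (i : X ⟶ X') [Flat i] (hq : Topology.IsQuotientMap i) [DCoh.HasLpull i] (K : DCoh.D X')
    {m : ℤ} (h : DCoh.IsPseudoCoherentD m ((DCoh.Lpull i).obj K)) : DCoh.IsPseudoCoherentD m K := by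
  refine PerfLib.isPC_local fun x' => ?_
  obtain ⟨x, rfl⟩ := hq.surjective x'
  obtain ⟨P, hP, ⟨eP⟩⟩ := KFlatLib.exists_good_rep K
  let Q := (KFlatLib.pullCx i).obj P
  have h0 : DCoh.IsPseudoCoherentD m (DCoh.toD X Q) :=
    isPC_of_iso ((DCoh.Lpull i).mapIso eP.symm ≪≫ KFlatLib.lpullObjIso i P hP.1) h
  obtain ⟨W, hxW, b₀, hb₀⟩ := ImmPCLib.exists_bound h0 x
  let b := max b₀ m
  let G : Set X' := {y | ∀ j, b < j → IsZero ((DerSch.stalkFunctor X' y).obj (P.homology j))}
  let F := fun j => (DerivedCategory.homologyFunctorFactors X.Modules j).app Q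
  have hG : IsOpen G := by
    refine hq.isOpen_preimage.1 (isOpen_iff_forall_mem_open.2 fun z hz => ?_)
    obtain ⟨U, hzU, b₁, hb₁⟩ := ImmPCLib.exists_bound h0 z
    obtain ⟨W₁, hzW₁, hW₁⟩ := exists_nhd_acyclicGE (b + 1)
      (PerfLib.isPC_mono (by omega) (PerfLib.isPC_res h0 U.ι)) (max b₁ b - b).toNat
      (fun j hj => hb₁ j (by omega)) (x := (⟨z, hzU⟩ : (U : Scheme.{u}))) fun j hj =>
        ((isZero_stalk_res_iff U.ι (⟨z, hzU⟩ : (U : Scheme.{u})) _).2 (((isZero_stalk_homology_pull_iff i P j z).1 (hz j (by omega))).of_iso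
          ((DerSch.stalkFunctor X z).mapIso (F j)))).of_iso
            ((DerSch.stalkFunctor _ _).mapIso (PerfLib.resHDIso U.ι (DCoh.toD X Q) j))
    refine ⟨(U.ι ''ᵁ W₁ : X.Opens), ?_, (U.ι ''ᵁ W₁).2, ⟨⟨z, hzU⟩, hzW₁, rfl⟩⟩
    rintro _ ⟨y, hy, rfl⟩ j hj
    exact (isZero_stalk_homology_pull_iff i P j (U.ι y)).2 (((isZero_stalk_res_iff U.ι y _).1
      ((hW₁ j (by omega) y hy).of_iso ((DerSch.stalkFunctor _ y).mapIso
        (PerfLib.resHDIso U.ι (DCoh.toD X Q) j).symm))).of_iso
          ((DerSch.stalkFunctor X (U.ι y)).mapIso (F j).symm))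
  have hxG : i x ∈ G := fun j hj => (isZero_stalk_homology_pull_iff i P j x).2
    (((isZero_stalk_res_iff W.ι ⟨x, hxW⟩ _).1 (((DerSch.stalkFunctor _ _).map_isZero (hb₀ j (by omega))).of_iso
      ((DerSch.stalkFunctor _ _).mapIso (PerfLib.resHDIso W.ι (DCoh.toD X Q) j).symm))).of_iso
        ((DerSch.stalkFunctor X x).mapIso (F j).symm))
  let W' : X'.Opens := ⟨G, hG⟩
  haveI := KFlatLib.hasLpull (i ∣_ W')
  refine ⟨W', W'.ι, inferInstance, ⟨i x, hxG⟩, rfl, ?_⟩
  refine isPC_of_iso ((resDQIso W'.ι P).symm ≪≫ (resD W'.ι).mapIso eP) ?_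
  refine isPC_of_bound (i ∣_ W') (isQuotientMap_restrict i hq W') _ b (fun j hj => ?_)
    (isPC_restrict_lpull i W' P hP.1 m (isPC_of_iso ((DCoh.Lpull i).mapIso eP.symm) h))
  exact ((KFlatLib.isZero_iff_forall_stalk _).2 fun v =>
    (isZero_stalk_res_iff W'.ι v (P.homology j)).2 (v.2 j hj)).of_iso
      ((DerivedCategory.homologyFunctor _ j).mapIso (resDQIso W'.ι P).symm ≪≫
        PerfLib.resHDIso W'.ι (DCoh.toD X' P) j ≪≫
        (PerfLib.res W'.ι).mapIso ((DerivedCategory.homologyFunctorFactors X'.Modules j).app P))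

end FpqcPCLib
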