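import Groth.Agent.FpqcPCLib.Main
import Groth.Agent.DRingLib.AmplitudeBC
import Groth.Agent.RelFlatLib.SmoothAmp
import Groth.Agent.KFlatLib.PerfectPull
import Groth.Agent.PerfDualLib.Dual

/-!
# Descent of perfection along flat quotient maps
-/

set_option autoImplicit false
set_option linter.style.haveILetI false
set_option backward.isDefEq.respectTransparency false
set_option backward.isDefEq.respectTransparency.types false
set_option maxHeartbeats 1000000

noncomputable section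

universe u

open CategoryTheory CategoryTheory.Limits AlgebraicGeometry TopologicalSpace
open HomologicalComplex
open Groth.Agent
open Groth.Agent.PerfLib (resD resC resDQIso isPC_of_iso)
open Groth.Agent.TwoTermLib.RelAmp (resCx)
attribute [local instance] HasDerivedCategory.standard

namespace FpqcPCLib

theorem amp_res_id_iff {R : Type u} [CommRing R] {θ : R →+* R} (hθ : θ = RingHom.id R)
    (M : CochainComplex (ModuleCat.{u} R) ℤ) (a b : ℤ) :
    DRing.HasTorAmplitudeIn R a b (DerivedCategory.Q.obj ((resCx θ).obj M)) ↔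
      DRing.HasTorAmplitudeIn R a b (DerivedCategory.Q.obj M) := by
  subst hθ
  let e : (resCx (RingHom.id R)).obj M ≅ M :=
    HomologicalComplex.Hom.isoOfComponents (fun n => (ModuleCat.restrictScalarsId R).app (M.X n))
      (fun i j _ => ((ModuleCat.restrictScalarsId R).hom.naturality (M.d i j)).symm)
  exact ⟨DRingLib.hasTorAmplitudeIn_of_iso (DerivedCategory.Q.mapIso e),
    DRingLib.hasTorAmplitudeIn_of_iso (DerivedCategory.Q.mapIso e.symm)⟩

variable {X X' : Scheme.{u}}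

/-- Tor amplitude at a point descends along a flat morphism. -/
theorem ampD_id_of_lpull (i : X ⟶ X') [Flat i] [DCoh.HasLpull i] (E : DCoh.D X') {a b : ℤ} (x : X)
    (h : RelFlatLib.AmpD (𝟙 X) a b ((DCoh.Lpull i).obj E) x) : RelFlatLib.AmpD (𝟙 X') a b E (i x) := by
  obtain ⟨P, hP, ⟨eP⟩⟩ := KFlatLib.exists_good_rep E
  have h1 := (amp_res_id_iff (θ := ((𝟙 X : X ⟶ X).stalkMap x).hom) (by rw [Scheme.Hom.stalkMap_id]; rfl)
    ((KFlatLib.stalkCx X x).obj ((KFlatLib.pullCx i).obj P)) a b).1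
    ((RelFlatLib.ampD_rep (𝟙 X) ((KFlatLib.lpullObjIso i P hP.1).symm ≪≫ (DCoh.Lpull i).mapIso eP) x).1 h)
  refine (RelFlatLib.ampD_rep (𝟙 X') eP (i x)).2
    ((amp_res_id_iff (θ := ((𝟙 X' : X' ⟶ X').stalkMap (i x)).hom) (by rw [Scheme.Hom.stalkMap_id]; rfl)
      ((KFlatLib.stalkCx X' (i x)).obj P) a b).2 ?_)
  letI := (i.stalkMap x).hom.toAlgebra
  haveI := ff_stalkMap i x
  exact DRingLib.hasTorAmplitudeIn_of_family (ι := Unit) (S := fun _ => (X.presheaf.stalk x : Type u))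
    (DRingLib.detectsZero_of_faithfullyFlat _ ()) ((KFlatLib.stalkCx X' (i x)).obj P) a b fun _ =>
      DRingLib.hasTorAmplitudeIn_of_iso (DerivedCategory.Q.mapIso (KFlatLib.stalkPullCxIso i x P)) h1

/-- A perfect object has locally uniform tor amplitude. -/
theorem exists_amp_nhd {L : DCoh.D X} (h : DCoh.IsPerfect L) (x : X) :
    ∃ (U : X.Opens) (a b : ℤ), x ∈ U ∧ ∀ y ∈ U, RelFlatLib.AmpD (𝟙 X) a b L y := by
  obtain ⟨V, hxV, hV⟩ := h x
  obtain ⟨E, ⟨⟨a, b, h1⟩, h2⟩, ⟨e⟩⟩ := hV _ ⟨DerivedCategory.Q.objObjPreimageIso L⟩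
  have hE : DCoh.HasFlatAmplitudeIn a b ((resD V.ι).obj L) :=
    ⟨E, h1, fun i => KFlatLib.isFlat_of_isFinLocFree (h2 i), ⟨e.symm ≪≫ (resDQIso V.ι _).symm ≪≫
      (resD V.ι).mapIso (DerivedCategory.Q.objObjPreimageIso L)⟩⟩
  exact ⟨V, a, b, hxV, fun y hy =>
    (RelFlatLib.ampD_id_res_iff V.ι ⟨y, hy⟩ a b L).1 ((RelFlatLib.flatAmp_iff_ampD _ a b).1 hE ⟨y, hy⟩)⟩

/-- Perfection descends along a quasi-compact flat quotient map. -/
theorem isPerfect_of_lpull (i : X ⟶ X') [Flat i] [QuasiCompact i] (hq : Topology.IsQuotientMap i)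
    [DCoh.HasLpull i] (E : DCoh.D X') (h : DCoh.IsPerfect ((DCoh.Lpull i).obj E)) : DCoh.IsPerfect E := by
  refine PerfDualLib.isPerfect_of_local fun x' => ?_
  obtain ⟨U, hU, hxU, -⟩ := exists_isAffineOpen_mem_and_subset (x := x') (U := ⊤) trivial
  have hc : IsCompact (i ⁻¹' (U : Set X')) := QuasiCompact.isCompact_preimage _ U.2 hU.isCompact
  choose V a b hxV hV using exists_amp_nhd h
  obtain ⟨t, ht⟩ := hc.elim_finite_subcover (fun x => (V x : Set X)) (fun x => (V x).2)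
    fun x _ => Set.mem_iUnion.2 ⟨x, hxV x⟩
  obtain ⟨a₀, ha₀⟩ := (t.finite_toSet.image a).bddBelow
  obtain ⟨b₀, hb₀⟩ := (t.finite_toSet.image b).bddAbove
  refine ⟨U, hxU, ?_⟩
  have hamp : DCoh.HasFlatAmplitudeIn a₀ b₀ ((resD U.ι).obj E) := by
    refine (RelFlatLib.flatAmp_iff_ampD _ a₀ b₀).2 fun v => (RelFlatLib.ampD_id_res_iff U.ι v a₀ b₀ E).2 ?_
    obtain ⟨x, hx⟩ := hq.surjective (U.ι v)
    obtain ⟨z, hzt, hxz⟩ := Set.mem_iUnion₂.1 (ht (show x ∈ i ⁻¹' (U : Set X') by show i x ∈ U; rw [hx]; exact v.2))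
    rw [← hx]
    exact ampD_id_of_lpull i E x (RelFlatLib.ampD_mono _ (ha₀ ⟨z, hzt, rfl⟩) (hb₀ ⟨z, hzt, rfl⟩) (hV z x hxz))
  exact RelFlatLib.isPerfect_of_perfectAmp (RelFlatLib.perfectAmp_of_pc_amp'
    (PerfLib.isPC_res (isPC_of_lpull i hq E (RelFlatLib.isPC_of_isPerfect h (a₀ - 1))) U.ι) hamp)

end FpqcPCLib
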